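import Cfsg.Agent.H618.KS.Nine

/-!
# S4577 (V): the valuation of the integral column of a major subsection of rank one and the heights

* `four_dvd_of_height`: height at least two, then `4` divides the entry;
* `odd_of_height_zero`: height zero, then the entry is odd.
-/

set_option autoImplicit false
set_option linter.unusedSectionVars false

open Cfsg
open scoped ComplexConjugate

namespace Cfsg.Agent.H261.KS

open Cfsg.Agent.Blocks.Blau Cfsg.Agent.Blocks.Local
open Cfsg.Agent.H651 Cfsg.Agent.H649 Cfsg.Agent.Characters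
open Cfsg.Agent.H652.DoubleCount Cfsg.Agent.H645.FusCount Cfsg.Agent.H650
open Cfsg.Agent.H645.TraceForm Cfsg.Agent.H645.LocMono Cfsg.Agent.H645.Watanabe
open Cfsg.Agent.H652.Ctr Cfsg.Agent.H652.CtrOne Cfsg.Agent.H613.RegGram
open Cfsg.Agent.H613.Contrib Cfsg.Agent.H613.ContribVal
open Cfsg.Agent.H617.AbelRank Cfsg.Agent.H617.StarAut Cfsg.Agent.H617.StarCols
open Cfsg.Agent.H617.RankOneCol

universe u

variable {G : Type u} [Group G] [Fintype G] {M : Ideal AlgInt} [M.IsPrime]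

/-- **(V1)** If the height of `χ` is at least two, the integer column of a rank-one subsection is divisible by four at `χ`. -/
theorem four_dvd_of_height (hM : IsPModular 2 M) {B : Set (IrrCharacter G)} {a : BrauerPairIdx G}
    (hmax : IsMaximalBrauerPair 2 M B a.1 a.2) (hcard : Nat.card a.1 = 16)
    (hab : ∀ x ∈ a.1, ∀ y ∈ a.1, x * y = y * x) {v : G} (hv : v ∈ a.1) {χ : IrrCharacter G} (hχ : χ ∈ B)
    (h0 : 2 ≤ blockHeight 2 B (χ : G → ℂ)) {n : ℤ}
    (hn : ((n * n : ℤ) : ℂ) = 16 * ctr 2 v (bP 2 M a v) (χ : G → ℂ) (χ : G → ℂ)) : (4 : ℤ) ∣ n := by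
  classical
  have hev := Cfsg.Agent.H618.KS.even_of_height hM hmax hcard hab hv hχ (by omega) hn
  obtain ⟨m, hm⟩ := hev.two_dvd
  have hp2 : Fact (Nat.Prime 2) := ⟨Nat.prime_two⟩
  have : Finite (IrrCharacter (Subgroup.centralizer ((bP 2 M a v).1 : Set G))) :=
    Core.finite_irr
  have : Fintype (Subgroup.centralizer ((bP 2 M a v).1 : Set G)) := Fintype.ofFinite _
  have : Fintype (bP 2 M a v).2 := Fintype.ofFinite _
  have hind := isInducedBlock_bP hM hmax hv
  rw [ctr_eq_contr' hM (bP_spec hM hmax.1.1 hv).1 hind.1 (Core.isIrr_isClassFunction χ.2)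
    (Core.isIrr_isClassFunction χ.2)] at hn
  obtain ⟨w, hw, hwe⟩ := Cfsg.Agent.H658.exists_nonunit_of_height_pos hM
    (exists_orderOf_eq_pow hM hmax.1.1 Nat.prime_two hv) (centralizer_bP hM hmax.1.1 hv) hind
    (blockDefect_bP hM hmax hab hv) hχ hχ (show blockHeight 2 B (χ : G → ℂ) ≠ 0 by omega)
  have hd : 2 ^ blockDefect 2 B = 16 := by
    rw [pow_blockDefect' hM hmax hab, hcard]
  have hd' : ((2 : ℕ) : ℂ) ^ blockDefect 2 B = 16 := by exact_mod_cast hd
  rw [hd', ← hn] at hwe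
  obtain ⟨k, hk⟩ := Nat.exists_eq_add_of_le h0
  have h1 : MemLocalIdeal M (((m * m : ℤ)) : ℂ) := by
    have h2 : (((m * m : ℤ)) : ℂ) = ((2 : ℕ) : ℂ) ^ k * w := by
      have h3 : (4 : ℂ) * ((m * m : ℤ) : ℂ) = 4 * (((2 : ℕ) : ℂ) ^ k * w) := by
        have h4 : (4 : ℂ) * ((m * m : ℤ) : ℂ) = ((n * n : ℤ) : ℂ) := by
          rw [hm]
          push_cast
          ring
        rw [h4, hwe, hk, pow_add]
        push_cast
        ring
      exact mul_left_cancel₀ (by norm_num) h3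
    rw [h2]
    exact memLocalIdeal_mul_left (memLocalRing_pow (memLocalRing_natCast _) _) hw
  have h2 : (2 : ℤ) ∣ m * m := by
    have h3 := (memLocalIdeal_intCast_iff hM _).1 h1
    exact_mod_cast h3
  have h3 : (2 : ℤ) ∣ m := by
    rcases Int.even_mul.1 (even_iff_two_dvd.2 h2) with h | h <;> exact h.two_dvd
  obtain ⟨k', hk'⟩ := h3
  exact ⟨k', by rw [hm, hk']; ring⟩

/-- **(V2)** If the height of `χ` is zero, the integer column of a rank-one subsection is odd at `χ`. -/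
theorem odd_of_height_zero (hM : IsPModular 2 M) {B : Set (IrrCharacter G)} {a : BrauerPairIdx G}
    (hmax : IsMaximalBrauerPair 2 M B a.1 a.2) (hcard : Nat.card a.1 = 16)
    (hab : ∀ x ∈ a.1, ∀ y ∈ a.1, x * y = y * x) {v : G} (hv : v ∈ a.1) {χ : IrrCharacter G} (hχ : χ ∈ B)
    (h0 : blockHeight 2 B (χ : G → ℂ) = 0) {n : ℤ}
    (hn : ((n * n : ℤ) : ℂ) = 16 * ctr 2 v (bP 2 M a v) (χ : G → ℂ) (χ : G → ℂ)) : Odd n := by
  classical
  have hp2 : Fact (Nat.Prime 2) := ⟨Nat.prime_two⟩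
  have : Finite (IrrCharacter (Subgroup.centralizer ((bP 2 M a v).1 : Set G))) :=
    Core.finite_irr
  have : Fintype (Subgroup.centralizer ((bP 2 M a v).1 : Set G)) := Fintype.ofFinite _
  have : Fintype (bP 2 M a v).2 := Fintype.ofFinite _
  have hind := isInducedBlock_bP hM hmax hv
  rw [ctr_eq_contr' hM (bP_spec hM hmax.1.1 hv).1 hind.1 (Core.isIrr_isClassFunction χ.2)
    (Core.isIrr_isClassFunction χ.2)] at hn
  obtain ⟨w, hw, hw', hwe⟩ := Cfsg.Agent.H658.exists_unit_of_height_zero hM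
    (exists_orderOf_eq_pow hM hmax.1.1 Nat.prime_two hv) (centralizer_bP hM hmax.1.1 hv) hind
    (blockDefect_bP hM hmax hab hv) hχ hχ h0
  have hd : 2 ^ blockDefect 2 B = 16 := by
    rw [pow_blockDefect' hM hmax hab, hcard]
  have hd' : ((2 : ℕ) : ℂ) ^ blockDefect 2 B = 16 := by exact_mod_cast hd
  rw [hd', ← hn, h0, pow_zero, one_mul] at hwe
  rw [← hwe] at hw'
  by_contra hne
  rw [Int.not_odd_iff_even] at hne
  apply hw'
  rw [memLocalIdeal_intCast_iff hM]
  have h3 : (2 : ℤ) ∣ n * n := Dvd.dvd.mul_right hne.two_dvd n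
  exact_mod_cast h3

end Cfsg.Agent.H261.KS
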